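import Cfsg.Agent.Nodes.RGDTypeA
import Cfsg.Agent.Nodes.KindA

/-!
# The torus of `PSL₃(q)` (helper507, TEAM K4)

* `card_W_le` : the Coxeter group of type `A_n` has at most `(n + 1)!` elements;
* `card_T_psl3` : `19 < |T|` for the torus of `PSL₃(q)`, `q ≥ 8` even.
-/

set_option autoImplicit false

namespace Cfsg.Agent.H507.K4.SizeA

open CoxeterSystem Cfsg.Agent.ChevalleyStructure.CoxeterGeom Cfsg.Agent.Tits.Roots Cfsg.Agent.Tits.Core
  Cfsg.Agent.Nodes.Comb Cfsg.Agent.Nodes.RootsA Cfsg.Agent.Nodes.RGDTypeA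
open Cfsg.Agent.LieRecognition.BNCox (cA cA_apply)
open Matrix (SpecialLinearGroup)

/-- the order of the Coxeter group of type `A_n` -/
theorem card_W_le {n : ℕ} {W : Type*} [Group W] (cs : CoxeterSystem (cA n) W) {A : Fin n → Fin n → ℤ}
    (h : IsCartan (cA n) A) : Nat.card W ≤ (n + 1).factorial := by
  classical
  choose f hf using fun w : W => Cfsg.Agent.Nodes.KindA.exists_perm cs h w
  have hinj : Function.Injective f := by
    intro w w' hw
    apply rep_injective cs h
    refine LinearMap.pi_ext' fun i => ?_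
    refine LinearMap.ext_ring ?_
    have h1 := hf w i.castSucc i.succ
    have h2 := hf w' i.castSucc i.succ
    rw [hw, ← h2] at h1
    simpa [rtA_sr, sr] using h1
  have h1 := Nat.card_le_card_of_injective f hinj
  rwa [Nat.card_eq_fintype_card (α := Equiv.Perm (Fin (n + 1))), Fintype.card_perm, Fintype.card_fin] at h1

variable {F : Type*} [Field F]

/-- diagonal matrices -/
noncomputable def dg : Fˣ × Fˣ →* SpecialLinearGroup (Fin 3) F where
  toFun p := ⟨Matrix.diagonal ![(p.1 : F), (p.2 : F), ((p.1 * p.2)⁻¹ : Fˣ)], by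
    rw [Matrix.det_diagonal, Fin.prod_univ_three]
    change (p.1 : F) * (p.2 : F) * (((p.1 * p.2)⁻¹ : Fˣ) : F) = 1
    rw [← Units.val_mul, Units.mul_inv]⟩
  map_one' := by
    apply Subtype.ext
    ext i j
    fin_cases i <;> fin_cases j <;> simp
  map_mul' p q := by
    apply Subtype.ext
    change Matrix.diagonal _ = Matrix.diagonal _ * Matrix.diagonal _
    rw [Matrix.diagonal_mul_diagonal]
    refine congrArg Matrix.diagonal (funext fun i => ?_)
    fin_cases i
    · rfl
    · rfl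
    · change (((p.1 * q.1 * (p.2 * q.2))⁻¹ : Fˣ) : F) = (((p.1 * p.2)⁻¹ : Fˣ) : F) * (((q.1 * q.2)⁻¹ : Fˣ) : F)
      rw [← Units.val_mul, ← mul_inv]
      congr 2
      exact mul_mul_mul_comm _ _ _ _

theorem dg_mem (p : Fˣ × Fˣ) : dg p ∈ T (Fin 3) F := by
  rw [mem_T]
  intro a b hab
  by_contra hne
  exact hab (Matrix.diagonal_apply_ne _ hne)

theorem dg_center {p : Fˣ × Fˣ} (hp : dg p ∈ Subgroup.center (SpecialLinearGroup (Fin 3) F)) :
    p.1 = p.2 ∧ p.1 ^ 3 = 1 := by
  rw [Matrix.SpecialLinearGroup.mem_center_iff] at hp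
  obtain ⟨r, -, hr⟩ := hp
  have h0 : r = (p.1 : F) := congrFun (congrFun hr 0) 0
  have h1 : r = (p.2 : F) := congrFun (congrFun hr 1) 1
  have h2 : r = (((p.1 * p.2)⁻¹ : Fˣ) : F) := congrFun (congrFun hr 2) 2
  have h3 : p.1 = p.2 := Units.ext (by rw [← h0, ← h1])
  refine ⟨h3, ?_⟩
  have h4 : p.1 = (p.1 * p.2)⁻¹ := Units.ext (by rw [← h0, h2])
  rw [← h3, eq_inv_iff_mul_eq_one] at h4
  rw [pow_succ, pow_two, mul_assoc]
  exact h4

/-- **The torus of `PSL₃(q)`, `q ≥ 8` even, has more than 19 elements.** -/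
theorem card_T_psl3 [Fintype F] [CharP F 2] (h8 : 8 ≤ Fintype.card F) :
    19 < Nat.card ((T (Fin (2 + 1)) F).map (pr 2 F)) := by
  classical
  have : Finite (SpecialLinearGroup (Fin 3) F) := inferInstance
  have hfin : Finite (Matrix.ProjectiveSpecialLinearGroup (Fin (2 + 1)) F) := Quotient.finite _
  let f : Fˣ × Fˣ →* Matrix.ProjectiveSpecialLinearGroup (Fin (2 + 1)) F := (pr 2 F).comp dg
  have h1 : Nat.card f.range ≤ Nat.card ((T (Fin (2 + 1)) F).map (pr 2 F)) := by
    apply Nat.card_mono (Set.toFinite _)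
    rintro _ ⟨p, rfl⟩
    exact ⟨dg p, dg_mem p, rfl⟩
  refine lt_of_lt_of_le ?_ h1
  have hker : ∀ p ∈ f.ker, p.1 = p.2 ∧ p.1 ^ 3 = 1 := by
    intro p hp
    apply dg_center
    have h2 : dg p ∈ (pr 2 F).ker := hp
    rwa [ker_pr] at h2
  have h2 : Nat.card f.ker * Nat.card f.range = (Fintype.card F - 1) * (Fintype.card F - 1) := by
    rw [← Subgroup.index_ker, Subgroup.card_mul_index, Nat.card_prod, Nat.card_units, Nat.card_eq_fintype_card]
  obtain ⟨n, -, hn⟩ := FiniteField.card F 2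
  have hle : Nat.card f.ker ≤ 3 := by
    have h3 : Nat.card f.ker ≤ Nat.card (rootsOfUnity 3 F) := by
      refine Nat.card_le_card_of_injective (fun p => ⟨p.1.1, (hker p.1 p.2).2⟩) ?_
      rintro ⟨p, hp⟩ ⟨p', hp'⟩ h
      have h4 : p.1 = p'.1 := congrArg Subtype.val h
      apply Subtype.ext
      exact Prod.ext h4 (by rw [← (hker p hp).1, ← (hker p' hp').1, h4])
    exact h3.trans (card_rootsOfUnity F 3)
  by_cases hF : Fintype.card F = 8
  · have h3 : Nat.card f.ker = 1 := by
      rw [Subgroup.card_eq_one, eq_bot_iff]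
      intro p hp
      obtain ⟨h4, h5⟩ := hker p hp
      have h6 : p.1 ^ 7 = 1 := by
        have := FiniteField.pow_card_sub_one_eq_one (p.1 : F) p.1.ne_zero
        rw [hF] at this
        exact Units.ext (by simpa using this)
      have h7 : p.1 = 1 := by
        have h8 : p.1 ^ 7 = (p.1 ^ 3) ^ 2 * p.1 := by
          rw [← pow_mul, ← pow_succ]
        rw [h6, h5, one_pow, one_mul] at h8
        exact h8.symm
      rw [Subgroup.mem_bot]
      exact Prod.ext h7 (by rw [← h4, h7]; rfl)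
    rw [h3, hF, one_mul] at h2
    omega
  · have h3 : 16 ≤ Fintype.card F := by
      rw [hn] at hF h8 ⊢
      have h4 : 3 ≤ (n : ℕ) := by
        by_contra h
        have h5 : (n : ℕ) ≤ 2 := by omega
        have := Nat.pow_le_pow_right (show 0 < 2 by norm_num) h5
        omega
      have h5 : (n : ℕ) ≠ 3 := by
        intro h
        rw [h] at hF
        exact hF rfl
      have := Nat.pow_le_pow_right (show 0 < 2 by norm_num) (show 4 ≤ (n : ℕ) by omega)
      exact this
    have h4 : 15 * 15 ≤ (Fintype.card F - 1) * (Fintype.card F - 1) :=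
      Nat.mul_le_mul (by omega) (by omega)
    rw [← h2] at h4
    by_contra h5
    have h6 : Nat.card f.ker * Nat.card f.range ≤ 3 * 19 := Nat.mul_le_mul hle (by omega)
    omega

end Cfsg.Agent.H507.K4.SizeA
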