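import Cfsg.Agent.H507.K4.Lam
import Cfsg.Agent.H507.K4.SizeA
import Cfsg.Agent.H742.TwoC
import Cfsg.Agent.H740.K4.Equiv
import Cfsg.Agent.KFacts.Mult.TypeA
import Cfsg.Agent.KFacts.Mult.RGDW

/-!
# Five good characters of `PSL₃(q)`, `q ≥ 8` even (helper507, TEAM K4)

`good5_psl3`.
-/

set_option autoImplicit false

open Cfsg

namespace Cfsg.Agent.H507.K4

open CoxeterSystem Cfsg.Agent.ChevalleyStructure.CoxeterGeom Cfsg.Agent.Tits.Roots Cfsg.Agent.Tits.Core
  Cfsg.Agent.Nodes.Comb Cfsg.Agent.Nodes Cfsg.Agent.H601.K4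

universe u

/-- **Five good characters of `PSL₃(q)`, `q ≥ 8` even.** -/
theorem good5_psl3 {S : Type u} [Group S] [Finite S] [IsSimpleGroup S] (F : Type) [Field F] [Fintype F] [CharP F 2]
    (h8 : 8 ≤ Fintype.card F) (e : S ≃* Matrix.ProjectiveSpecialLinearGroup (Fin 3) F) : Good5 S := by
  classical
  have : Fact (Nat.Prime 2) := ⟨Nat.prime_two⟩
  have hfin : Finite (Matrix.ProjectiveSpecialLinearGroup (Fin 3) F) := Quotient.finite _
  have hsim : IsSimpleGroup (Matrix.ProjectiveSpecialLinearGroup (Fin 3) F) := e.symm.isSimpleGroup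
  have hL : IsLieTypeChar 2 (Matrix.ProjectiveSpecialLinearGroup (Fin 3) F) :=
    Or.inl ⟨F, inferInstance, inferInstance, inferInstance, 3, by norm_num, fun h => absurd h (by norm_num),
      ⟨MulEquiv.refl _⟩⟩
  have hT := H742.TwoC.twoC_charTwo hL
  let cs := (Cfsg.Agent.LieRecognition.BNCox.cA 2).toCoxeterSystem
  have hW : Finite (Cfsg.Agent.LieRecognition.BNCox.cA 2).Group :=
    RootsA.finite_W cs (RootsA.isCartan 2)
  have hcW : Nat.card (Cfsg.Agent.LieRecognition.BNCox.cA 2).Group ≤ 6 :=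
    SizeA.card_W_le cs (RootsA.isCartan 2)
  refine H740.K4.good5_of_equiv e (Lam.good5_of_two (a := (0 : Fin 2)) (b := 1)
    (RGDTypeA.rgd_psl (n := 2) (F := F) (p := 2) cs (RootsA.isCartan 2))
    (KFacts.Mult.RGDW.GG_eq_top_of_G1 (RGDTypeA.G1_psl_eq_top (n := 2) (F := F) cs (RootsA.isCartan 2))) hT rfl ?_ ?_)
  · rintro _ ⟨s, hs, rfl⟩ _ ⟨t, ht, rfl⟩
    rw [← map_mul, ← map_mul, KFacts.Mult.TypeA.T_comm hs ht]
  · exact lt_of_le_of_lt (Nat.add_le_add_right hcW 1) (lt_trans (by norm_num) (SizeA.card_T_psl3 (F := F) h8))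

end Cfsg.Agent.H507.K4
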