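import Cfsg.Agent.H984.SLX
import Cfsg.Agent.H740.K4.Four
import Cfsg.Agent.H740.K4.Equiv
import Cfsg.Agent.TIAbelian.IsolatedPSL
import Cfsg.Agent.H803.RankOneFacts

/-!
# Five good characters of odd degree: `PSL₂(q)`, `q ≥ 8` even (helper507, S4947, S4547)

* `sigFix_of_exp_two` : if the `2`-elements of `S` have order at most two, every function is `SigFix`;
* `good5_sl2`, `good5_psl2` : `Good5` for `SL₂(F)`, `PSL₂(F)`, `F` of characteristic two, `8 ≤ |F|`.
-/

set_option autoImplicit false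

open Cfsg
open scoped ComplexConjugate

namespace Cfsg.Agent.H507.K4

open Cfsg.Agent.Characters.Core Cfsg.Agent.H984.SLTwo Cfsg.Agent.H601.K4 Cfsg.Agent.H984.EigCount

universe u v

/-- the `2`-elements are involutions -/
theorem sigFix_of_exp_two {S : Type u} [Group S] [Finite S]
    (h : ∀ g : S, (∃ j : ℕ, orderOf g = 2 ^ j) → g ^ 2 = 1) (χ : S → ℂ) : SigFix χ := by
  intro k h2 h3 g
  have hg : g ^ k = g := by
    have hpos : orderOf g ≠ 0 := (orderOf_pos g).ne'
    obtain ⟨a, m, hm, hn⟩ := Nat.exists_eq_two_pow_mul_odd hpos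
    have hm0 : m ≠ 0 := by rintro rfl; exact (by decide : ¬ Odd 0) hm
    have e1 : orderOf (g ^ m) = 2 ^ a := by
      rw [orderOf_pow, hn, Nat.gcd_eq_right (Dvd.intro_left _ rfl), Nat.mul_div_cancel _ (Nat.pos_of_ne_zero hm0)]
    have e2 : orderOf (g ^ 2 ^ a) = m := by
      rw [orderOf_pow, hn, Nat.gcd_eq_right (Dvd.intro _ rfl), Nat.mul_div_cancel_left _ (by positivity)]
    have h4 : (g ^ m) ^ k = g ^ m := by
      rw [h2 (g ^ m) ⟨a, e1⟩, pow_succ, h (g ^ m) ⟨a, e1⟩, one_mul]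
    have h5 : (g ^ 2 ^ a) ^ k = g ^ 2 ^ a := h3 _ (by rw [e2]; exact hm)
    have hcop : Nat.Coprime m (2 ^ a) := (Nat.Coprime.pow_right _ (Nat.coprime_two_right.2 hm))
    -- `g` is in the group generated by the two parts
    have h6 : (g ^ k * g⁻¹) ^ m = 1 := by
      rw [(((Commute.refl g).pow_left k).inv_right).mul_pow, ← pow_mul, mul_comm k m, pow_mul, h4, inv_pow,
        mul_inv_cancel]
    have h7 : (g ^ k * g⁻¹) ^ 2 ^ a = 1 := by
      rw [(((Commute.refl g).pow_left k).inv_right).mul_pow, ← pow_mul, mul_comm k (2 ^ a), pow_mul, h5, inv_pow,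
        mul_inv_cancel]
    have h8 : orderOf (g ^ k * g⁻¹) ∣ 1 := by
      rw [← hcop.gcd_eq_one]
      exact Nat.dvd_gcd (orderOf_dvd_of_pow_eq_one h6) (orderOf_dvd_of_pow_eq_one h7)
    have h9 := orderOf_eq_one_iff.1 (Nat.dvd_one.1 h8)
    rwa [mul_inv_eq_one] at h9
  rw [hg]

section SLTwo

variable {F : Type u} [Field F]

local notation "SL" => Matrix.SpecialLinearGroup (Fin 2) F

/-- the `2`-elements of `SL₂` in characteristic two -/
theorem sq_of_two [CharP F 2] (g : SL) (h : ∃ j : ℕ, orderOf g = 2 ^ j) : g ^ 2 = 1 := by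
  obtain ⟨j, hj⟩ := h
  have h1 : g ^ 2 ^ (j + 1) = 1 := by
    rw [pow_succ, pow_mul, ← hj, pow_orderOf_eq_one, one_pow]
  clear hj
  induction j with
  | zero => simpa using h1
  | succ j ih =>
    apply ih
    have h2 : (g ^ 2 ^ j) ^ 4 = 1 := by
      rw [← pow_mul]
      have : 2 ^ j * 4 = 2 ^ (j + 1 + 1) := by ring
      rw [this]; exact h1
    have h3 := Cfsg.Agent.TIAbelian.IsolatedPSL.sq_eq_one_of_pow_four _ h2
    rw [← pow_mul, ← pow_succ] at h3
    exact h3

variable [Fintype F] [DecidableEq F]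

theorem R_self {α : MulChar F ℂ} (h : α ≠ α⁻¹) : classInner (R α : SL → ℂ) (R α) = 1 := by
  classical
  rw [classInner_R_R, if_pos rfl, if_neg h, add_zero]

theorem R_irr {α : MulChar F ℂ} (h : α ≠ α⁻¹) : IsIrrCharacter SL (R α) :=
  Cfsg.Agent.Characters.Core.isIrr_of_classInner_self (isCharacter_R α) (R_self h)

theorem R_conj (α : MulChar F ℂ) (g : SL) : R α⁻¹ g = conj (R α g) := by
  rw [Cfsg.Agent.H984.SLTwo.R_apply, Cfsg.Agent.H984.SLTwo.R_apply, map_mul, map_sum, map_inv₀, map_sub, map_one,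
    Complex.conj_natCast]
  congr 1
  refine Finset.sum_congr rfl fun c _ => ?_
  rw [map_mul, Complex.conj_natCast, conj_mulChar]

theorem R_ne {α β : MulChar F ℂ} (h1 : α ≠ β) (h2 : α ≠ β⁻¹) (h : α ≠ α⁻¹) : (R α : SL → ℂ) ≠ R β := by
  classical
  intro hab
  have h3 := classInner_R_R α β
  rw [← hab, R_self h, if_neg h1, if_neg h2, add_zero] at h3
  exact one_ne_zero h3

theorem R_inv {α : MulChar F ℂ} (h : α ≠ α⁻¹) : (R α : SL → ℂ) = R α⁻¹ := by
  classical
  by_contra hne
  have h' : α⁻¹ ≠ α⁻¹⁻¹ := by rw [inv_inv]; exact h.symm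
  have h1 := classInner_irr_ne (R_irr h) (R_irr h') hne
  rw [classInner_R_R, if_neg h, if_pos (inv_inv α).symm, zero_add] at h1
  exact one_ne_zero h1

theorem R_real {α : MulChar F ℂ} (h : α ≠ α⁻¹) (g : SL) : (R α g).im = 0 := by
  have h1 : conj (R α g) = R α g := by
    rw [← R_conj, ← R_inv h]
  exact Complex.conj_eq_iff_im.1 h1

theorem R_one' (α : MulChar F ℂ) : R α (1 : SL) = ((Fintype.card F + 1 : ℕ) : ℂ) := by
  have h := ind_scalar (fun c => α c) (1 : SL) (by simp) (by simp) (by simp)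
  have h2 : R α (1 : SL) = _ := h
  rw [h2]
  simp

theorem good_R [CharP F 2] {α : MulChar F ℂ} (h : α ≠ α⁻¹) (hq : Even (Fintype.card F)) :
    Good (R α : SL → ℂ) := by
  have hodd : OddIrr (R α : SL → ℂ) := by
    refine ⟨R_irr h, ?_⟩
    rw [Cfsg.Agent.Blocks.Basic.charDegree_of_eq (R_one' α)]
    obtain ⟨m, hm⟩ := hq
    omega
  exact ⟨hodd, sigFix_of_exp_two sq_of_two _, InB0.of_real hodd (R_real h)⟩

theorem R_zero {t : SL} (ht : Ell (t : Matrix (Fin 2) (Fin 2) F)) (α : MulChar F ℂ) : R α t = 0 :=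
  ind_ell (fun c => α c) t ht

/-- **Five good characters of `SL₂(q)`, `q ≥ 8` even.** -/
theorem good5_sl2 [CharP F 2] (h8 : 8 ≤ Fintype.card F) : Good5 SL := by
  classical
  obtain ⟨n, -, hn⟩ := FiniteField.card F 2
  have heven : Even (Fintype.card F) := by
    rw [hn]
    exact (Nat.even_pow.2 ⟨even_two, n.ne_zero⟩)
  obtain ⟨α, hα⟩ := MulChar.exists_mulChar_orderOf F (dvd_refl (Fintype.card F - 1))
    (Complex.isPrimitiveRoot_exp (Fintype.card F - 1) (by omega))
  have hpow : ∀ m : ℕ, 0 < m → m < 7 → α ^ m ≠ 1 := by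
    intro m h0 h1 h2
    have := Nat.le_of_dvd h0 (orderOf_dvd_of_pow_eq_one h2)
    omega
  have hinv : ∀ i j : ℕ, 0 < i + j → i + j < 7 → α ^ i ≠ (α ^ j)⁻¹ := by
    intro i j h0 h1 h2
    apply hpow (i + j) h0 h1
    rw [pow_add, h2, inv_mul_cancel]
  have hne : ∀ i j : ℕ, i < j → j < 7 → α ^ i ≠ α ^ j := by
    intro i j h0 h1 h2
    apply hpow (j - i) (by omega) (by omega)
    have h3 : α ^ i * α ^ (j - i) = α ^ i * 1 := by
      rw [← pow_add, mul_one, Nat.add_sub_cancel' h0.le, h2]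
    exact mul_left_cancel h3
  obtain ⟨t, ht⟩ := exists_ell (F := F)
  have hto : Odd (orderOf t) := by
    have h1 : orderOf t ∣ Fintype.card F + 1 := by
      rw [← card_cent_ell t ht]
      have h2 : t ∈ Subgroup.centralizer ({t} : Set SL) := by
        rw [Subgroup.mem_centralizer_singleton_iff]
      have h3 := orderOf_dvd_natCard (⟨t, h2⟩ : Subgroup.centralizer ({t} : Set SL))
      rwa [← Subgroup.orderOf_coe] at h3
    exact Odd.of_dvd_nat heven.add_one h1
  have hev : Even (Nat.card SL) := by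
    rw [card_SL]
    exact heven.mul_right _
  refine H740.K4.good5_of_four hev (χ := Fin.cons (fun _ => 1) fun i : Fin 3 => R (α ^ ((i : ℕ) + 1))) (t := t)
    (z := Fin.cons 1 fun _ => 0) ?_ ?_ hto ?_ ?_
  · rw [Fin.cons_injective_iff]
    constructor
    · rintro ⟨i, hi⟩
      have h1 : R (α ^ ((i : ℕ) + 1)) (1 : SL) = 1 := congrFun hi 1
      rw [R_one'] at h1
      have h2 : ((Fintype.card F + 1 : ℕ) : ℂ) = ((1 : ℕ) : ℂ) := by rw [h1]; simp
      have h3 := Nat.cast_injective h2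
      omega
    · intro i j hij
      by_contra hne'
      have hi := i.2
      have hj := j.2
      have hij' : (i : ℕ) ≠ j := fun h => hne' (Fin.ext h)
      rcases Nat.lt_or_gt_of_ne hij' with h | h
      · exact R_ne (hne _ _ (by omega) (by omega)) (hinv _ _ (by omega) (by omega)) (hinv _ _ (by omega) (by omega)) hij
      · exact R_ne (hne _ _ (by omega) (by omega)) (hinv _ _ (by omega) (by omega)) (hinv _ _ (by omega) (by omega))
          hij.symm
  · intro i
    refine Fin.cases ?_ (fun i => ?_) i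
    · exact H740.K4.good_one'
    · rw [Fin.cons_succ]
      have hi := i.2
      exact good_R (hinv _ _ (by omega) (by omega)) heven
  · intro i
    refine Fin.cases ?_ (fun i => ?_) i
    · rw [Fin.cons_zero, Fin.cons_zero]
      simp
    · rw [Fin.cons_succ, Fin.cons_succ, Int.cast_zero]
      exact R_zero ht _
  · rw [Fin.sum_univ_succ]
    simp only [Fin.cons_zero, Fin.cons_succ, Finset.sum_const_zero, add_zero]
    exact odd_one

end SLTwo

/-- **Five good characters of `PSL₂(q)`, `q ≥ 8` even.** -/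
theorem good5_psl2 (F : Type u) [Field F] [Fintype F] [CharP F 2] (h8 : 8 ≤ Fintype.card F) :
    Good5 (Matrix.ProjectiveSpecialLinearGroup (Fin 2) F) := by
  classical
  obtain ⟨e⟩ := H803.RankOneFacts.nonempty_psl_equiv (F := F)
  exact H740.K4.good5_of_equiv e.symm (good5_sl2 h8)

end Cfsg.Agent.H507.K4
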