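import Cfsg.Agent.H967.K4.Crit
import Cfsg.Agent.Characters.Linear

/-!
# Linear characters of the torus, pairwise not conjugate under the Weyl group (helper507, TEAM K4)

* `tw R w mu` : the conjugate of `mu : T →* ℂˣ` by `w`; `tw_tw`, `tw_one`, `tw_eq`;
* `exists_lamSet` : `k * |W| + 1 < |T|` and `T` abelian: there is a `LamSet` with `k + 2` members.
-/

set_option autoImplicit false
set_option linter.unusedSectionVars false

open scoped ComplexConjugate
open Cfsg

namespace Cfsg.Agent.H507.K4.Lam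

open Cfsg.Agent.Characters Cfsg.Agent.H601.K4 Cfsg.Agent.H967.K4
open CoxeterSystem Cfsg.Agent.ChevalleyStructure.CoxeterGeom Cfsg.Agent.Tits.Roots Cfsg.Agent.Tits.Core
  Cfsg.Agent.Tits.Exchange Cfsg.Agent.Nodes.Reps Cfsg.Agent.Nodes.BNOf Cfsg.Agent.Nodes.StabComb
  Cfsg.Agent.Nodes.Bruhat

theorem oddIrr_hom {G : Type*} [Group G] (f : G →* ℂˣ) : OddIrr (fun g => (f g : ℂ)) := by
  refine ⟨Linear.isIrrCharacter_hom f, ?_⟩
  rw [charDegree, map_one]
  simp

/-- the conjugate by an element of the normalizer -/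
def cT {Y : Type*} [Group Y] {T : Subgroup Y} (g : Y) (hg : ∀ t ∈ T, g⁻¹ * t * g ∈ T) : T →* T where
  toFun t := ⟨g⁻¹ * t * g, hg t t.2⟩
  map_one' := Subtype.ext (by simp)
  map_mul' s t := Subtype.ext (by
    change g⁻¹ * (s * t) * g = g⁻¹ * s * g * (g⁻¹ * t * g)
    group)

section rgd

variable {I W Y : Type*} [Fintype I] [DecidableEq I] [Group W] [Group Y] {M : CoxeterMatrix I}
  {cs : CoxeterSystem M W} {A : I → I → ℤ} {h : IsCartan M A} {T : Subgroup Y} {n : I → Y}
  {X : (I → ℤ) → Subgroup Y}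

theorem rp_mem {hN : NSys M T n} {w : W} {g : Y} (hg : Rp cs hN w g) {t : Y} (ht : t ∈ T) : g⁻¹ * t * g ∈ T := by
  have h1 := (Subgroup.mem_normalizer_iff.1 (inv_mem hg.mem_normalizer) t).1 ht
  rwa [inv_inv] at h1

/-- the conjugate of a linear character of the torus -/
noncomputable def tw (cs : CoxeterSystem M W) (hN : NSys M T n) (w : W) (mu : T →* ℂˣ) : T →* ℂˣ :=
  mu.comp (cT (exists_rp cs hN w).choose fun _ ht => rp_mem (exists_rp cs hN w).choose_spec ht)

theorem tw_eq {hN : NSys M T n} (hab : ∀ s ∈ T, ∀ t ∈ T, s * t = t * s) {w : W} {g : Y} (hg : Rp cs hN w g)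
    (mu : T →* ℂˣ) (t : T) : tw cs hN w mu t = mu ⟨g⁻¹ * t * g, rp_mem hg t.2⟩ := by
  change mu _ = mu _
  congr 1
  apply Subtype.ext
  have hk := (exists_rp cs hN w).choose_spec
  set k := (exists_rp cs hN w).choose with hk'
  have h1 : k⁻¹ * g ∈ T := hk.unique hg
  have h2 := rp_mem hk t.2
  have h3 := hab _ h1 _ h2
  change k⁻¹ * t * k = g⁻¹ * t * g
  have h4 : g⁻¹ * t * g = (k⁻¹ * g)⁻¹ * ((k⁻¹ * t * k) * (k⁻¹ * g)) := by group
  rw [h4, ← h3, inv_mul_cancel_left]

theorem tw_one {hN : NSys M T n} (hab : ∀ s ∈ T, ∀ t ∈ T, s * t = t * s) (mu : T →* ℂˣ) :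
    tw cs hN (1 : W) mu = mu := by
  ext t
  rw [tw_eq hab rp_one]
  congr 2
  exact Subtype.ext (by simp)

theorem tw_tw {hN : NSys M T n} (hab : ∀ s ∈ T, ∀ t ∈ T, s * t = t * s) (w v : W) (mu : T →* ℂˣ) :
    tw cs hN w (tw cs hN v mu) = tw cs hN (w * v) mu := by
  obtain ⟨g, hg⟩ := exists_rp cs hN w
  obtain ⟨k, hk⟩ := exists_rp cs hN v
  ext t
  rw [tw_eq hab hg, tw_eq hab hk, tw_eq hab (hg.mul hk)]
  congr 2
  apply Subtype.ext
  change k⁻¹ * (g⁻¹ * t * g) * k = (g * k)⁻¹ * t * (g * k)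
  group

theorem tw_id {hN : NSys M T n} (w : W) : tw cs hN w 1 = 1 := by
  ext t
  rfl

/-- the number of linear characters -/
theorem card_hom [Finite T] (hab : ∀ s ∈ T, ∀ t ∈ T, s * t = t * s) : Nat.card (T →* ℂˣ) = Nat.card T := by
  let _ : CommGroup T := { (inferInstance : Group T) with mul_comm := fun s t => Subtype.ext (hab s s.2 t t.2) }
  exact CommGroup.card_monoidHom_of_hasEnoughRootsOfUnity T ℂ

theorem exists_homs [Finite W] [Finite Y] (cs : CoxeterSystem M W) (hN : NSys M T n)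
    (hab : ∀ s ∈ T, ∀ t ∈ T, s * t = t * s) (k : ℕ) (hk : (k - 1) * Nat.card W + 1 < Nat.card T ∨ k = 0) :
    ∃ L : Finset (T →* ℂˣ), L.card = k + 1 ∧ 1 ∈ L ∧ ∀ lam ∈ L, ∀ mu ∈ L, lam ≠ mu → ∀ w : W, lam ≠ tw cs hN w mu := by
  classical
  induction k with
  | zero =>
    refine ⟨{1}, rfl, Finset.mem_singleton_self _, fun lam h1 mu h2 hne => ?_⟩
    rw [Finset.mem_singleton] at h1 h2
    exact absurd (h1.trans h2.symm) hne
  | succ k ih =>
    have hk' : k * Nat.card W + 1 < Nat.card T := by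
      rcases hk with h | h
      · exact h
      · omega
    obtain ⟨L, h1, h2, h3⟩ := ih (by
      rcases Nat.eq_zero_or_pos k with h | h
      · exact Or.inr h
      · left
        refine lt_of_le_of_lt ?_ hk'
        exact Nat.add_le_add_right (Nat.mul_le_mul_right _ (Nat.sub_le _ _)) 1)
    have : Fintype W := Fintype.ofFinite W
    have hcard := card_hom (T := T) hab
    have : Finite (T →* ℂˣ) := Nat.finite_of_card_ne_zero (by rw [hcard]; exact Nat.card_pos.ne')
    have : Fintype (T →* ℂˣ) := Fintype.ofFinite _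
    let O : Finset (T →* ℂˣ) := insert 1 ((Finset.univ ×ˢ L.erase 1).image fun p : W × (T →* ℂˣ) => tw cs hN p.1 p.2)
    have hO : O.card ≤ k * Nat.card W + 1 := by
      refine (Finset.card_insert_le _ _).trans (Nat.add_le_add_right (Finset.card_image_le.trans ?_) 1)
      rw [Finset.card_product, Finset.card_erase_of_mem h2, h1, Finset.card_univ, Nat.card_eq_fintype_card,
        Nat.add_sub_cancel, mul_comm]
    obtain ⟨mu, hmu⟩ : ∃ mu, mu ∉ O := by
      by_contra hcon
      push Not at hcon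
      have h4 : Fintype.card (T →* ℂˣ) ≤ O.card := by
        rw [← Finset.card_univ]
        exact Finset.card_le_card fun x _ => hcon x
      rw [← Nat.card_eq_fintype_card, hcard] at h4
      omega
    have hmu1 : mu ≠ 1 := fun h => hmu (h ▸ Finset.mem_insert_self _ _)
    have hmu2 : ∀ lam ∈ L, ∀ w : W, mu ≠ tw cs hN w lam := by
      intro lam hl w h
      by_cases hlam : lam = 1
      · rw [hlam, tw_id] at h
        exact hmu1 h
      · exact hmu (Finset.mem_insert_of_mem (Finset.mem_image.2 ⟨(w, lam), Finset.mem_product.2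
          ⟨Finset.mem_univ _, Finset.mem_erase.2 ⟨hlam, hl⟩⟩, h.symm⟩))
    have hmuL : mu ∉ L := fun h => hmu2 mu h 1 (tw_one hab mu).symm
    refine ⟨insert mu L, by rw [Finset.card_insert_of_notMem hmuL, h1], Finset.mem_insert_of_mem h2, ?_⟩
    intro lam hlam nu hnu hne w
    rw [Finset.mem_insert] at hlam hnu
    rcases hlam with rfl | hlam <;> rcases hnu with rfl | hnu
    · exact absurd rfl hne
    · exact hmu2 nu hnu w
    · intro h
      apply hmu2 lam hlam w⁻¹
      rw [h, tw_tw hab, inv_mul_cancel, tw_one hab]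
    · exact h3 lam hlam nu hnu hne w

/-- **Many characters of the torus.** -/
theorem exists_lamSet [Finite W] [Finite Y] [Fintype T] (R : RGD cs h 2 T n X)
    (hab : ∀ s ∈ T, ∀ t ∈ T, s * t = t * s) (k : ℕ) (hk : k * Nat.card W + 1 < Nat.card T) :
    ∃ Λ : Finset (T → ℂ), LamSet R Λ ∧ Λ.card = k + 2 := by
  classical
  obtain ⟨L, h1, -, h3⟩ := exists_homs cs R.nsys hab (k + 1) (Or.inl (by rwa [Nat.add_sub_cancel]))
  let f : (T →* ℂˣ) → T → ℂ := fun lam t => (lam t : ℂ)
  have hf : Function.Injective f := by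
    intro lam mu hlm
    ext t
    exact congrFun hlm t
  refine ⟨L.image f, ⟨?_, ?_⟩, by rw [Finset.card_image_of_injective _ hf, h1]⟩
  · intro lam hlam
    obtain ⟨lam, -, rfl⟩ := Finset.mem_image.1 hlam
    exact oddIrr_hom lam
  · intro lam hlam mu hmu hne w g hg hgT
    obtain ⟨lam, hlam', rfl⟩ := Finset.mem_image.1 hlam
    obtain ⟨mu, hmu', rfl⟩ := Finset.mem_image.1 hmu
    have h4 := h3 lam hlam' mu hmu' (fun e => hne (by rw [e])) w
    have h5 : (fun t : T => ((tw cs R.nsys w mu) t : ℂ)) ≠ fun t : T => (lam t : ℂ) := fun e => h4 (hf e.symm)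
    have h6 := Core.classInner_irr_ne (Linear.isIrrCharacter_hom lam) (Linear.isIrrCharacter_hom (tw cs R.nsys w mu))
      h5.symm
    rw [Core.classInner_def, mul_eq_zero] at h6
    rcases h6 with h6 | h6
    · exact absurd h6 (inv_ne_zero Core.card_ne_zero_complex)
    · rw [← h6]
      refine Finset.sum_congr rfl fun t _ => ?_
      change (lam t : ℂ) * conj (mu ⟨g⁻¹ * t * g, hgT t t.2⟩ : ℂ) = (lam t : ℂ) * conj ((tw cs R.nsys w mu) t : ℂ)
      rw [tw_eq hab hg]

/-- **The criterion in rank two, simply laced.** -/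
theorem good5_of_two [Finite W] [Finite Y] (R : RGD cs h 2 T n X) (hG : GG cs h T X = ⊤) (hT : H601.OddDeg.TwoC Y)
    {a b : I} (hMab : M a b = 3) (hab : ∀ s ∈ T, ∀ t ∈ T, s * t = t * s) (hk : Nat.card W + 1 < Nat.card T) :
    Good5 Y := by
  classical
  have : Fintype T := Fintype.ofFinite _
  obtain ⟨Λ, hΛ, hc⟩ := exists_lamSet R hab 1 (by rwa [one_mul])
  have n1 : a ≠ b := ne_of_M (M := M) (by rw [hMab]; decide)
  have e1 : ({a} : Set I).ncard = 1 := Set.ncard_singleton a
  have e2 : ({a, b} : Set I).ncard = 2 := Set.ncard_pair n1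
  have d1 : ({a} : Set I) ≠ {a, b} := fun e => by rw [e, e2] at e1; omega
  refine good5_of R hG hT {{a}, {a, b}} ?_ ?_ hΛ ?_
  · intro K hK
    simp only [Finset.mem_insert, Finset.mem_singleton] at hK
    rcases hK with rfl | rfl
    · exact ⟨⟨a, rfl⟩, oc_node R a b hMab⟩
    · exact ⟨⟨a, Or.inl rfl⟩, oc_two R hMab⟩
  · intro K hK J hJ hKJ hA
    have hcd := le_antisymm hA.1.ncard hA.2.ncard
    simp only [Finset.mem_insert, Finset.mem_singleton] at hK hJ
    rcases hK with rfl | rfl <;> rcases hJ with rfl | rfl <;>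
      first
        | exact hKJ rfl
        | (simp only [e1, e2] at hcd; omega)
  · rw [hc, Finset.card_insert_of_notMem (by simp [d1]), Finset.card_singleton]

end rgd

end Cfsg.Agent.H507.K4.Lam
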